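import Mathlib.LinearAlgebra.BilinearForm.Orthogonal
import Mathlib.LinearAlgebra.FreeModule.PID
import Mathlib.LinearAlgebra.Dual.Lemmas
import Mathlib.LinearAlgebra.FiniteDimensional.Basic
import Mathlib.Algebra.Module.Torsion.Free
import Mathlib.LinearAlgebra.Dimension.RankNullity
import Mathlib.LinearAlgebra.Dimension.Torsion.Finite
import Mathlib.LinearAlgebra.Dimension.Localization

/-! # Positive definite integral lattices -/

set_option autoImplicit false

namespace Groth.Agent.LatLib29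

variable {L : Type} [AddCommGroup L] [Module.Finite ℤ L] [Module.Free ℤ L]

/-- on a sublattice, every functional has a nonzero multiple given by the form -/
theorem exists_smul_eq_form (B : LinearMap.BilinForm ℤ L) (hpos : ∀ x, x ≠ 0 → 0 < B x x) (A : Submodule ℤ L)
    (χ : Module.Dual ℤ ↥A) : ∃ (c : ℤ) (a : ↥A), c ≠ 0 ∧ ∀ b : ↥A, c * χ b = B a b := by
  let φ : ↥A →ₗ[ℤ] Module.Dual ℤ ↥A := (B.compl₂ A.subtype) ∘ₗ A.subtype
  have hinj : Function.Injective φ := by
    rw [injective_iff_map_eq_zero]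
    intro a ha
    by_contra hne
    have h1 := hpos (a : L) fun h => hne (Subtype.ext h)
    have h2 : B (a : L) a = 0 := LinearMap.congr_fun ha a
    omega
  have hrk : Module.finrank ℤ (Module.Dual ℤ ↥A ⧸ LinearMap.range φ) = 0 := by
    have h := Submodule.finrank_quotient_add_finrank (LinearMap.range φ)
    rw [LinearMap.finrank_range_of_inj hinj] at h
    have : Module.finrank ℤ (Module.Dual ℤ ↥A) = Module.finrank ℤ ↥A := by
      exact ((Module.Free.chooseBasis ℤ ↥A).toDualEquiv).finrank_eq.symm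
    omega
  obtain ⟨c, hc, hcz⟩ := (Module.finrank_eq_zero_iff (R := ℤ)).1 hrk (Submodule.Quotient.mk χ)
  rw [← Submodule.Quotient.mk_smul, Submodule.Quotient.mk_eq_zero] at hcz
  obtain ⟨a, ha⟩ := hcz
  exact ⟨c, a, hc, fun b => by simpa [φ] using (LinearMap.congr_fun ha b).symm⟩

theorem orthogonal_orthogonal (B : LinearMap.BilinForm ℤ L) (hsymm : B.IsSymm) (hpos : ∀ x, x ≠ 0 → 0 < B x x)
    (A : Submodule ℤ L) (htf : ∀ (c : ℤ) (x : L), c ≠ 0 → c • x ∈ A → x ∈ A) {y : L}
    (hy : ∀ b ∈ B.orthogonal A, B y b = 0) : y ∈ A := by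
  obtain ⟨c, a, hc, ha⟩ := exists_smul_eq_form B hpos A ((B y).comp A.subtype)
  have hb : c • y - (a : L) ∈ B.orthogonal A := by
    rw [LinearMap.BilinForm.mem_orthogonal_iff]
    intro n hn
    have := ha ⟨n, hn⟩
    simp only [LinearMap.comp_apply, Submodule.coe_subtype] at this
    rw [hsymm.eq, map_sub, map_smul, LinearMap.sub_apply, LinearMap.smul_apply, smul_eq_mul, this, sub_self]
  have h1 : B (a : L) (c • y - (a : L)) = 0 := LinearMap.BilinForm.mem_orthogonal_iff.1 hb _ a.2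
  have h2 : B y (c • y - (a : L)) = 0 := hy _ hb
  have h3 : B (c • y - (a : L)) (c • y - (a : L)) = 0 := by
    rw [LinearMap.map_sub₂, LinearMap.map_smul₂, h1, h2, smul_zero, sub_zero]
  have h4 : c • y - (a : L) = 0 := by
    by_contra hne
    have := hpos _ hne
    omega
  exact htf c y hc (sub_eq_zero.1 h4 ▸ a.2)

theorem exists_extend (A : Submodule ℤ L) (htf : ∀ (c : ℤ) (x : L), c ≠ 0 → c • x ∈ A → x ∈ A)
    (ψ : Module.Dual ℤ ↥A) : ∃ φ : Module.Dual ℤ L, φ ∘ₗ A.subtype = ψ := by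
  haveI : Module.IsTorsionFree ℤ (L ⧸ A) := ⟨fun r hr x y hxy => by
    obtain ⟨x, rfl⟩ := Submodule.Quotient.mk_surjective A x
    obtain ⟨y, rfl⟩ := Submodule.Quotient.mk_surjective A y
    simp only [← Submodule.Quotient.mk_smul] at hxy
    rw [Submodule.Quotient.eq, ← smul_sub] at hxy
    exact (Submodule.Quotient.eq A).2 (htf r _ hr.ne_zero hxy)⟩
  obtain ⟨s, hs⟩ := Module.projective_lifting_property A.mkQ LinearMap.id A.mkQ_surjective
  let p : L →ₗ[ℤ] ↥A := LinearMap.codRestrict A (LinearMap.id - s ∘ₗ A.mkQ) fun x => by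
    rw [← Submodule.Quotient.mk_eq_zero]
    have := LinearMap.congr_fun hs (A.mkQ x)
    simp only [LinearMap.comp_apply, LinearMap.id_apply, Submodule.mkQ_apply] at this
    simp [this]
  refine ⟨ψ ∘ₗ p, LinearMap.ext fun a => ?_⟩
  show ψ (p (a : L)) = ψ a
  congr 1
  ext
  simp [p, (Submodule.Quotient.mk_eq_zero A).2 a.2]

end Groth.Agent.LatLib29
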